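import Groth.Agent.FlatDescent.CMFibre.BC
import Groth.Agent.FlatDescent.Strat.Algebra

/-!
# Constructibility of the Cohen–Macaulay locus of the fibres, affine case
-/

universe u

open CategoryTheory CategoryTheory.Limits AlgebraicGeometry Topology
open scoped TensorProduct

namespace Groth.FlatDescent.CMFibre

open Groth.FlatDescent.CM

/-- The structure map of affine schemes of an algebra. -/
noncomputable abbrev algSpec (A B : Type u) [CommRing A] [CommRing B] [Algebra A B] :
    Spec (CommRingCat.of B) ⟶ Spec (CommRingCat.of A) :=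
  Spec.map (CommRingCat.ofHom (algebraMap A B))

theorem isPullback_algSpec (A B A' : Type u) [CommRing A] [CommRing B] [Algebra A B] [CommRing A'] [Algebra A A'] :
    IsPullback (Spec.map (CommRingCat.ofHom (Algebra.TensorProduct.includeRight : B →ₐ[A] A' ⊗[A] B).toRingHom))
      (algSpec A' (A' ⊗[A] B)) (algSpec A B) (algSpec A A') :=
  isPullback_SpecMap_of_isPushout _ _ _ _ (CommRingCat.isPushout_tensorProduct A A' B).flip

theorem isConstructible_of_isOpen {R : Type u} [CommRing R] [IsNoetherianRing R] {s : Set (PrimeSpectrum R)}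
    (hs : IsOpen s) : IsConstructible s := by
  refine IsRetrocompact.isConstructible hs ?_
  exact fun t _ _ => TopologicalSpace.NoetherianSpace.isCompact _

/-- The locus on a stratum with flat algebra. -/
theorem isConstructible_piece {A B : Type u} [CommRing A] [IsNoetherianRing A] [CommRing B] [Algebra A B]
    [Algebra.FiniteType A B] (I : Ideal A) (a : A)
    (hflat : Module.Flat (Localization.Away (Ideal.Quotient.mk I a))
      (Localization.Away (Ideal.Quotient.mk I a) ⊗[A] B)) :
    IsConstructible (X := PrimeSpectrum B)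
      (locus (algSpec A B) ∩ {Q | I ≤ Q.asIdeal.under A ∧ algebraMap A B a ∉ Q.asIdeal}) := by
  let A' := Localization.Away (Ideal.Quotient.mk I a)
  haveI : Algebra.FiniteType A A' :=
    Algebra.FiniteType.trans (R := A) (S := A ⧸ I) inferInstance inferInstance
  haveI : IsNoetherianRing A' := Algebra.FiniteType.isNoetherianRing A A'
  haveI : IsNoetherianRing B := Algebra.FiniteType.isNoetherianRing A B
  haveI : IsNoetherianRing (A' ⊗[A] B) := Algebra.FiniteType.isNoetherianRing A' (A' ⊗[A] B)
  have hc := isPullback_algSpec A B A'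
  let f' := algSpec A' (A' ⊗[A] B)
  let ι' : B →+* A' ⊗[A] B := (Algebra.TensorProduct.includeRight : B →ₐ[A] A' ⊗[A] B).toRingHom
  let g' := Spec.map (CommRingCat.ofHom ι')
  haveI : Algebra.FinitePresentation A B := Algebra.FinitePresentation.of_finiteType.mp ‹_›
  haveI : LocallyOfFinitePresentation f' :=
    (HasRingHomProperty.Spec_iff (P := @LocallyOfFinitePresentation)).mpr
      (RingHom.finitePresentation_algebraMap.mpr inferInstance)
  haveI : Flat f' := Flat.SpecMap_iff.mpr (RingHom.flat_algebraMap_iff.mpr hflat)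
  haveI : LocallyOfFiniteType (algSpec A B) :=
    (HasRingHomProperty.Spec_iff (P := @LocallyOfFiniteType)).mpr (RingHom.finiteType_algebraMap.mpr ‹_›)
  have hopen : IsOpen (locus f') := by
    have : locus f' = {x | MoreMor.IsCMAt f' x} := by
      ext x
      exact ⟨fun h => ⟨Flat.stalkMap f' x, h⟩, fun h => h.2⟩
    rw [this]
    exact isOpen_cmLocus f'
  have hfp : ι'.FinitePresentation := by
    refine RingHom.FinitePresentation.of_finiteType.mp ?_
    letI := ι'.toAlgebra
    haveI : IsScalarTower A B (A' ⊗[A] B) :=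
      IsScalarTower.of_algebraMap_eq fun r => (Algebra.TensorProduct.includeRight.commutes r).symm
    haveI : Algebra.FiniteType A (A' ⊗[A] B) := Algebra.FiniteType.trans (S := A') ‹_› inferInstance
    exact Algebra.FiniteType.of_restrictScalars_finiteType A B (A' ⊗[A] B)
  have key := PrimeSpectrum.isConstructible_comap_image hfp (isConstructible_of_isOpen hopen)
  convert key using 1
  have hrange : ∀ p : PrimeSpectrum A, p ∈ Set.range (PrimeSpectrum.comap (algebraMap A A')) ↔
      I ≤ p.asIdeal ∧ a ∉ p.asIdeal := by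
    intro p
    rw [IsScalarTower.algebraMap_eq A (A ⧸ I) A', PrimeSpectrum.comap_comp, Set.range_comp,
      PrimeSpectrum.localization_away_comap_range A' (Ideal.Quotient.mk I a)]
    constructor
    · rintro ⟨q, hq, rfl⟩
      exact ⟨fun r hr => by
        show Ideal.Quotient.mk I r ∈ q.asIdeal
        rw [Ideal.Quotient.eq_zero_iff_mem.mpr hr]
        exact zero_mem _, hq⟩
    · intro ⟨hI, ha⟩
      have hp : p ∈ Set.range (PrimeSpectrum.comap (Ideal.Quotient.mk I)) := by
        rw [range_comap_of_surjective _ _ Ideal.Quotient.mk_surjective, Ideal.mk_ker]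
        exact hI
      obtain ⟨q, rfl⟩ := hp
      exact ⟨q, ha, rfl⟩
  have himage : g' '' locus f' = locus (algSpec A B) ∩ algSpec A B ⁻¹' Set.range (algSpec A A') := by
    rw [locus_baseChange _ hc, Set.image_preimage_eq_inter_range]
    congr 1
    rw [← Scheme.Pullback.range_fst, show g' = hc.isoPullback.hom ≫ pullback.fst _ _ from
      hc.isoPullback_hom_fst.symm]
    exact Function.Surjective.range_comp hc.isoPullback.hom.homeomorph.surjective
      (pullback.fst (algSpec A B) (algSpec A A'))
  refine Eq.trans ?_ himage.symm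
  ext Q
  exact and_congr_right' (hrange (PrimeSpectrum.comap (algebraMap A B) Q)).symm

/-- Constructibility over a Noetherian base. -/
theorem isConstructible_locus_noetherian (A B : Type u) [CommRing A] [IsNoetherianRing A] [CommRing B] [Algebra A B]
    [Algebra.FiniteType A B] : IsConstructible (X := PrimeSpectrum B) (locus (algSpec A B)) := by
  haveI : Algebra.FinitePresentation A B := Algebra.FinitePresentation.of_finiteType.mp ‹_›
  obtain ⟨J₀, -, hJ₀, hchain⟩ := Strat.exists_chain (A := A) (fun _ : Unit => B) (fun _ : Unit => B)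
  suffices h : IsConstructible (X := PrimeSpectrum B) (locus (algSpec A B) ∩ {Q | J₀ ≤ Q.asIdeal.under A}) by
    convert h using 1
    refine (Set.inter_eq_left.mpr fun Q _ r hr => ?_).symm
    exact Ideal.IsPrime.radical (inferInstance : (Q.asIdeal.under A).IsPrime) ▸
      (Ideal.radical_mono bot_le (hJ₀ hr))
  clear hJ₀
  induction hchain using Relation.ReflTransGen.head_induction_on with
  | refl =>
    convert IsConstructible.empty (X := PrimeSpectrum B) using 1
    refine Set.eq_empty_of_forall_notMem fun Q hQ => ?_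
    exact (inferInstance : (Q.asIdeal.under A).IsPrime).ne_top (top_le_iff.mp hQ.2)
  | @head I J hstep _ ih =>
    obtain ⟨hIJ, ⟨s, hs⟩, hflat⟩ := hstep
    have hpiece : IsConstructible (X := PrimeSpectrum B) (⋃ a ∈ (s : Set A),
        (locus (algSpec A B) ∩ {Q | I ≤ Q.asIdeal.under A ∧ algebraMap A B a ∉ Q.asIdeal})) := by
      refine IsConstructible.biUnion s.finite_toSet fun a ha => isConstructible_piece I a ?_
      refine hflat _ (Ideal.map_eq_bot_iff_le_ker _ |>.mpr fun r hr => ?_) ?_ ()
      · rw [RingHom.mem_ker, IsScalarTower.algebraMap_apply A (A ⧸ I),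
          Ideal.Quotient.algebraMap_eq, Ideal.Quotient.eq_zero_iff_mem.mpr hr, map_zero]
      · refine Ideal.eq_top_of_isUnit_mem _
          (Ideal.mem_map_of_mem _ (hs ▸ Submodule.subset_span ha : a ∈ J)) ?_
        rw [IsScalarTower.algebraMap_apply A (A ⧸ I)]
        exact IsLocalization.Away.algebraMap_isUnit (Ideal.Quotient.mk I a)
    convert ih.union hpiece using 1
    ext Q
    simp only [Set.mem_union, Set.mem_inter_iff, Set.mem_iUnion, Set.mem_setOf_eq, exists_prop]
    constructor
    · intro ⟨h1, h2⟩
      by_cases hJ : J ≤ Q.asIdeal.under A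
      · exact Or.inl ⟨h1, hJ⟩
      · rw [← hs, Ideal.span_le, Set.not_subset] at hJ
        obtain ⟨a, ha, ha'⟩ := hJ
        exact Or.inr ⟨a, ha, h1, h2, ha'⟩
    · rintro (⟨h1, h2⟩ | ⟨a, -, h1, h2, -⟩)
      exacts [⟨h1, hIJ.trans h2⟩, ⟨h1, h2⟩]

end Groth.FlatDescent.CMFibre
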