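import Groth.Agent.FlatDescent.CM.Main

/-!
# The Cohen–Macaulay locus of the fibres under base change
-/

universe u

open CategoryTheory CategoryTheory.Limits AlgebraicGeometry IsLocalRing

namespace Groth.FlatDescent.CMFibre

open Groth.FlatDescent.CM

variable {X Y X' Y' : Scheme.{u}}

/-- The points at which the local ring of the fibre is Cohen–Macaulay. -/
def locus (f : X ⟶ Y) : Set X :=
  {x | LocCoh.IsCohenMacaulayLocalRing ((f.fiber (f x)).presheaf.stalk (f.asFiber x))}

theorem mem_locus_fiberι (f : X ⟶ Y) {y : Y} (p : f.fiber y) :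
    f.fiberι y p ∈ locus f ↔ LocCoh.IsCohenMacaulayLocalRing ((f.fiber y).presheaf.stalk p) := by
  have key : ∀ (x : X) {y : Y} (p : f.fiber y), f.fiberι y p = x → f x = y →
      (x ∈ locus f ↔ LocCoh.IsCohenMacaulayLocalRing ((f.fiber y).presheaf.stalk p)) := by
    rintro x y p hx rfl
    rw [show p = f.asFiber x from (f.fiberι _).isEmbedding.injective (hx.trans (f.fiberι_asFiber x).symm)]
    rfl
  refine key _ p rfl ?_
  have : f.fiberι y p ∈ Set.range (f.fiberι y) := ⟨p, rfl⟩
  rwa [Scheme.Hom.range_fiberι] at this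

/-- The locus in terms of the local ring. -/
theorem mem_locus_iff (f : X ⟶ Y) (x : X) :
    x ∈ locus f ↔ LocCoh.IsCohenMacaulayLocalRing (X.presheaf.stalk x ⧸ maxExt f x) := by
  obtain ⟨e⟩ := exists_fibreStalkEquiv f x
  exact ⟨fun h => cm_ringEquiv e.symm h, fun h => cm_ringEquiv e h⟩

theorem cm_maxExt_openImmersion_comp {Z : Scheme.{u}} (j : X ⟶ Y) [IsOpenImmersion j] (f : Y ⟶ Z) (x : X) :
    LocCoh.IsCohenMacaulayLocalRing (X.presheaf.stalk x ⧸ maxExt (j ≫ f) x) ↔
      LocCoh.IsCohenMacaulayLocalRing (Y.presheaf.stalk (j x) ⧸ maxExt f (j x)) := by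
  let e : Y.presheaf.stalk (j x) ≃+* X.presheaf.stalk x := (asIso (j.stalkMap x)).commRingCatIsoToRingEquiv
  have he : maxExt (j ≫ f) x = (maxExt f (j x)).map (e : _ →+* X.presheaf.stalk x) := maxExt_comp j f x
  let q := Ideal.quotientEquiv _ _ e he
  exact ⟨fun h => cm_ringEquiv q.symm h, fun h => cm_ringEquiv q h⟩

theorem cm_maxExt_comp_openImmersion {Z : Scheme.{u}} (f : X ⟶ Y) (j : Y ⟶ Z) [IsOpenImmersion j] (x : X) :
    LocCoh.IsCohenMacaulayLocalRing (X.presheaf.stalk x ⧸ maxExt (f ≫ j) x) ↔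
      LocCoh.IsCohenMacaulayLocalRing (X.presheaf.stalk x ⧸ maxExt f x) := by
  let e : Z.presheaf.stalk (j (f x)) ≃+* Y.presheaf.stalk (f x) := (asIso (j.stalkMap (f x))).commRingCatIsoToRingEquiv
  have hm : maxExt (f ≫ j) x = maxExt f x := by
    rw [maxExt_comp, maxExt, maxExt]
    congr 1
    exact IsLocalRing.map_maximalIdeal_of_surjective _ e.surjective
  rw [hm]

theorem isField_stalk {K : CommRingCat.{u}} (hK : IsField K) (q : PrimeSpectrum K) :
    IsField ((Spec K).presheaf.stalk q) := by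
  letI : Algebra K ((Spec K).presheaf.stalk q) := (StructureSheaf.toStalk K q).hom.toAlgebra
  haveI : IsLocalization q.asIdeal.primeCompl ((Spec K).presheaf.stalk q) :=
    StructureSheaf.IsLocalization.to_stalk K q
  refine ⟨⟨0, 1, zero_ne_one⟩, mul_comm, fun {a} ha => ?_⟩
  obtain ⟨x, s, rfl⟩ := IsLocalization.exists_mk'_eq q.asIdeal.primeCompl a
  by_cases hx : x = 0
  · exact absurd (by rw [hx, IsLocalization.mk'_zero]) ha
  · obtain ⟨y, hy⟩ := hK.mul_inv_cancel hx
    refine ⟨algebraMap K _ (y * s), ?_⟩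
    rw [map_mul, ← mul_assoc, mul_right_comm, IsLocalization.mk'_spec, ← map_mul, hy, map_one]

theorem maxExt_field {K : CommRingCat.{u}} (hK : IsField K) (f : X ⟶ Spec K) (x : X) : maxExt f x = ⊥ := by
  rw [maxExt, IsLocalRing.isField_iff_maximalIdeal_eq.mp (isField_stalk hK (f x)), Ideal.map_bot]

theorem flat_over_field {K : CommRingCat.{u}} (hK : IsField K) (f : X ⟶ Spec K) (x : X) :
    (f.stalkMap x).hom.Flat := by
  letI := (isField_stalk hK (f x)).toField
  letI := (f.stalkMap x).hom.toAlgebra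
  exact (inferInstance : Module.Flat ((Spec K).presheaf.stalk (f x)) (X.presheaf.stalk x))

theorem isCMAt_field_iff {K : CommRingCat.{u}} (hK : IsField K) (f : X ⟶ Spec K) (x : X) :
    MoreMor.IsCMAt f x ↔ LocCoh.IsCohenMacaulayLocalRing (X.presheaf.stalk x) := by
  rw [isCMAt_iff]
  let e : (X.presheaf.stalk x ⧸ maxExt f x) ≃+* X.presheaf.stalk x :=
    (Ideal.quotEquivOfEq (maxExt_field hK f x)).trans (RingEquiv.quotientBot _)
  exact ⟨fun h => cm_ringEquiv e h.2, fun h => ⟨flat_over_field hK f x, cm_ringEquiv e.symm h⟩⟩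

/-- Cohen–Macaulay at a point is stable under any base change. -/
theorem isCMAt_baseChange (f : X ⟶ Y) [LocallyOfFinitePresentation f] {f' : X' ⟶ Y'} {g' : X' ⟶ X} {g : Y' ⟶ Y}
    (hc : IsPullback g' f' f g) (x' : X') (h : MoreMor.IsCMAt f (g' x')) : MoreMor.IsCMAt f' x' := by
  haveI : LocallyOfFinitePresentation f' := MorphismProperty.of_isPullback hc ‹_›
  obtain ⟨n, U, hxU, G, hG, hGflat, hGqf⟩ := exists_toAffineSpace_of_isCMAt f (g' x') h
  let U' := g' ⁻¹ᵁ U
  have hU : IsPullback (g' ∣_ U) U'.ι U.ι g' := (isPullback_morphismRestrict g' U)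
  have hbig : IsPullback (g' ∣_ U) (U'.ι ≫ f') (U.ι ≫ f) g := hU.paste_vert hc
  have hA := AffineSpace.isPullback_map (n := ULift.{u} (Fin n)) g
  let G' : (U' : Scheme.{u}) ⟶ 𝔸(ULift.{u} (Fin n); Y') :=
    hA.lift ((g' ∣_ U) ≫ G) (U'.ι ≫ f') (by rw [Category.assoc, hG, hbig.w])
  have hG' : IsPullback (g' ∣_ U) G' G (AffineSpace.map _ g) :=
    IsPullback.of_bot (by rw [hG, hA.lift_snd]; exact hbig) (hA.lift_fst _ _ _).symm hA
  haveI : LocallyQuasiFinite G' := MorphismProperty.of_isPullback hG' hGqf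
  haveI : Flat G' := MorphismProperty.of_isPullback hG' hGflat
  exact isCMAt_of_toAffineSpace f' U' G' (hA.lift_snd _ _ _) ⟨x', hxU⟩ (Flat.stalkMap G' _)

/-- Invariance of the Cohen–Macaulay property under field extensions. -/
theorem cm_stalk_field_iff {K K' : CommRingCat.{u}} (hK : IsField K) (hK' : IsField K') (f : X ⟶ Spec K)
    [LocallyOfFiniteType f] {f' : X' ⟶ Spec K'} {g' : X' ⟶ X} {g : Spec K' ⟶ Spec K}
    (hc : IsPullback g' f' f g) (x' : X') :
    LocCoh.IsCohenMacaulayLocalRing (X'.presheaf.stalk x') ↔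
      LocCoh.IsCohenMacaulayLocalRing (X.presheaf.stalk (g' x')) := by
  letI := hK.toField
  haveI : IsNoetherianRing K := inferInstance
  haveI : LocallyOfFinitePresentation f := by infer_instance
  refine ⟨fun h => ?_, fun h => (isCMAt_field_iff hK' f' x').mp
    (isCMAt_baseChange f hc x' ((isCMAt_field_iff hK f _).mpr h))⟩
  haveI : Flat g := Flat.of_stalkMap g fun z => flat_over_field hK g z
  haveI : Flat g' := MorphismProperty.of_isPullback hc.flip ‹Flat g›
  haveI : LocallyOfFiniteType f' := MorphismProperty.of_isPullback hc ‹_›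
  letI := hK'.toField
  haveI : IsLocallyNoetherian X := LocallyOfFiniteType.isLocallyNoetherian f
  haveI : IsLocallyNoetherian X' := LocallyOfFiniteType.isLocallyNoetherian f'
  letI := (g'.stalkMap x').hom.toAlgebra
  haveI : Module.Flat (X.presheaf.stalk (g' x')) (X'.presheaf.stalk x') := Flat.stalkMap g' x'
  haveI : IsLocalHom (algebraMap (X.presheaf.stalk (g' x')) (X'.presheaf.stalk x')) :=
    inferInstanceAs (IsLocalHom (g'.stalkMap x').hom)
  exact ((cm_iff_of_flat (X.presheaf.stalk (g' x')) (X'.presheaf.stalk x')).mp h).1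

/-- The locus is compatible with arbitrary base change. -/
theorem locus_baseChange (f : X ⟶ Y) [LocallyOfFiniteType f] {f' : X' ⟶ Y'} {g' : X' ⟶ X} {g : Y' ⟶ Y}
    (hc : IsPullback g' f' f g) : locus f' = g' ⁻¹' locus f := by
  ext x'
  let y' := f' x'
  let G := pullback.map f' (Y'.fromSpecResidueField y') f (Y.fromSpecResidueField (g y')) g'
    (Spec.map (g.residueFieldMap y')) g hc.w.symm (by simp)
  have hsq : IsPullback G (f'.fiberToSpecResidueField y') (f.fiberToSpecResidueField (g y'))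
      (Spec.map (g.residueFieldMap y')) := isPullback_fiberToSpecResidueField_of_isPullback hc y'
  have hfac : G ≫ f.fiberι (g y') = f'.fiberι y' ≫ g' := pullback.lift_fst _ _ _
  have hG : f.fiberι (g y') (G (f'.asFiber x')) = g' x' :=
    (congrArg (fun φ : f'.fiber y' ⟶ X => φ (f'.asFiber x')) hfac).trans
      (congrArg g' (f'.fiberι_asFiber x'))
  haveI : LocallyOfFiniteType (f.fiberToSpecResidueField (g y')) :=
    MorphismProperty.pullback_snd _ _ ‹LocallyOfFiniteType f›
  rw [Set.mem_preimage, ← hG, mem_locus_fiberι]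
  exact @cm_stalk_field_iff _ _ _ _ (Field.toIsField _) (Field.toIsField _) _
    ‹LocallyOfFiniteType (f.fiberToSpecResidueField (g y'))› _ _ _ hsq (f'.asFiber x')

end Groth.FlatDescent.CMFibre
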