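import Groth.Agent.FlatDescent.CMFibre.Affine

/-!
# Local constructibility of the Cohen–Macaulay locus of the fibres
-/

universe u

open CategoryTheory CategoryTheory.Limits AlgebraicGeometry Topology
open scoped TensorProduct

namespace Groth.FlatDescent.CMFibre

open Groth.FlatDescent.CM

theorem isConstructible_locus_affine (A B : Type u) [CommRing A] [CommRing B] [Algebra A B]
    [Algebra.FinitePresentation A B] : IsConstructible (X := PrimeSpectrum B) (locus (algSpec A B)) := by
  let P := Algebra.Presentation.ofFinitePresentation A B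
  haveI : IsNoetherianRing P.Core := Algebra.FiniteType.isNoetherianRing ℤ P.Core
  let B₀ := P.ModelOfHasCoeffs P.Core
  let e : A ⊗[P.Core] B₀ ≃ₐ[A] B := P.tensorModelOfHasCoeffsEquiv P.Core
  haveI : Algebra.FiniteType P.Core B₀ := inferInstance
  haveI : LocallyOfFiniteType (algSpec P.Core B₀) :=
    (HasRingHomProperty.Spec_iff (P := @LocallyOfFiniteType)).mpr (RingHom.finiteType_algebraMap.mpr ‹_›)
  let eC : CommRingCat.of (A ⊗[P.Core] B₀) ≅ CommRingCat.of B :=
    @RingEquiv.toCommRingCatIso (A ⊗[P.Core] B₀) B _ _ e.toRingEquiv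
  let E := Spec.map eC.hom
  have hE : IsPullback E (algSpec A B) (algSpec A (A ⊗[P.Core] B₀)) (𝟙 _) :=
    IsPullback.of_horiz_isIso ⟨by
      rw [Category.comp_id, ← Spec.map_comp]
      congr 1
      ext a
      exact e.commutes a⟩
  have hsq := hE.paste_horiz (isPullback_algSpec P.Core B₀ A)
  rw [locus_baseChange _ hsq]
  exact Scheme.Hom.isConstructible_preimage _ (isConstructible_locus_noetherian P.Core B₀)

variable {X S : Scheme.{u}}

theorem isLocallyConstructible_locus (f : X ⟶ S) [LocallyOfFinitePresentation f] :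
    IsLocallyConstructible (locus f) := by
  intro x
  obtain ⟨V, hV, hxV, -⟩ := exists_affine_le (⊤ : S.Opens) (z := f x) trivial
  obtain ⟨W, hW, hxW, e⟩ := exists_affine_le (f ⁻¹ᵁ V) (z := x) hxV
  letI := (f.appLE V W e).hom.toAlgebra
  haveI : Algebra.FinitePresentation Γ(S, V) Γ(X, W) :=
    HasRingHomProperty.appLE @LocallyOfFinitePresentation f inferInstance ⟨V, hV⟩ ⟨W, hW⟩ e
  refine ⟨W, W.2.mem_nhds hxW, W.2, ?_⟩
  have hpre : hW.fromSpec ⁻¹' locus f = locus (algSpec Γ(S, V) Γ(X, W)) := by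
    ext P
    show hW.fromSpec P ∈ locus f ↔ P ∈ locus (algSpec Γ(S, V) Γ(X, W))
    rw [mem_locus_iff, mem_locus_iff, ← cm_maxExt_openImmersion_comp hW.fromSpec f P,
      ← IsAffineOpen.SpecMap_appLE_fromSpec f hV hW e, cm_maxExt_comp_openImmersion]
    rfl
  have hc := isConstructible_locus_affine Γ(S, V) Γ(X, W)
  rw [← hpre] at hc
  let h : (W : Scheme.{u}) ≅ Spec Γ(X, W) := hW.isoSpec
  have := hc.preimage_of_isOpenEmbedding h.hom.isOpenEmbedding
  have key : h.hom ⁻¹' (hW.fromSpec ⁻¹' locus f) = W.ι ⁻¹' locus f := by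
    rw [← hW.isoSpec_hom_fromSpec]
    rfl
  rw [key] at this
  exact this

end Groth.FlatDescent.CMFibre
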